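import Groth.Agent.S6039
import Groth.Agent.H22Alg.ESZCM
import Groth.Agent.H22Alg.TwistPoint
import Groth.Agent.H17.PullSectLocal
import Groth.Agent.H10Coh.Proper2
import Groth.Agent.H06Mod.StalkPullback
import Groth.Agent.H4Depth.Regular
import Groth.Prelude.Def_Coh

/-!
# Comparing global sections of bundles along rational maps defined in codimension one
-/

set_option autoImplicit false
set_option linter.style.haveILetI false
set_option maxHeartbeats 800000

noncomputable section

universe u

open CategoryTheory CategoryTheory.Limits AlgebraicGeometry Opposite TopologicalSpace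

namespace Groth.Agent.H7Forms

variable {X X' : Scheme.{u}}

/-- Sections of a bundle on a regular scheme extend over subsets of codimension at least two. -/
theorem bijective_res [IsLocallyNoetherian X] (hreg : ∀ x : X, IsRegularLocalRing (X.presheaf.stalk x))
    {L : X.Modules} (hL : FlatMod.IsFinLocFree L) (V : X.Opens)
    (hV : ∀ x : X, x ∉ V → (2 : WithBot ℕ∞) ≤ ringKrullDim (X.presheaf.stalk x)) :
    Function.Bijective (L.presheaf.map (homOfLE (le_top : V ≤ ⊤)).op) := by
  have h : ∀ x : X, x ∉ (V : Set X) → (2 : ℕ∞) ≤ LocCoh.depth (X.presheaf.stalk x) (L.presheaf.stalk x) := by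
    intro x hx
    haveI := hreg x
    refine le_trans ?_ (H22Alg.ESZCM.depth_le_finLocFree hL x)
    have h2 := hV x hx
    rw [← H4Depth.depth_self_eq_ringKrullDim_of_regular (X.presheaf.stalk x)] at h2
    exact WithBot.coe_le_coe.mp h2
  have h2 := (S6039.result X V L (H10Coh.Tw.isCoh_of_vb hL)).1 h ⊤
  have key : ∀ (W : X.Opens) (hW : W ≤ (⊤ : X.Opens)), W = V →
      Function.Bijective (L.presheaf.map (homOfLE hW).op) →
      Function.Bijective (L.presheaf.map (homOfLE (le_top : V ≤ ⊤)).op) := by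
    rintro W hW rfl hb; exact hb
  exact key _ _ (top_inf_eq V) h2

/-- The pullback of global sections to a big open is bijective. -/
theorem bijective_pullSect_top [IsLocallyNoetherian X] (hreg : ∀ x : X, IsRegularLocalRing (X.presheaf.stalk x))
    {L : X.Modules} (hL : FlatMod.IsFinLocFree L) (V : X.Opens)
    (hV : ∀ x : X, x ∉ V → (2 : WithBot ℕ∞) ≤ ringKrullDim (X.presheaf.stalk x)) :
    Function.Bijective (OmegaSh.pullSect V.ι L ⊤) := by
  have h1 := bijective_res hreg hL V hV
  have h2 := H17.PullSect.bijective_pullSect V.ι L (W := V) (Scheme.Opens.opensRange_ι V).ge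
  have hle : V.ι ⁻¹ᵁ V ≤ V.ι ⁻¹ᵁ ⊤ := fun _ _ => trivial
  let r := ((Scheme.Modules.pullback V.ι).obj L).presheaf.map (homOfLE hle).op
  have h3 : Function.Bijective r := by
    haveI : IsIso (homOfLE hle) :=
      ⟨homOfLE (fun x _ => x.2), Subsingleton.elim _ _, Subsingleton.elim _ _⟩
    exact ConcreteCategory.bijective_of_isIso r
  have h4 : ∀ t : Γ(L, ⊤), r (OmegaSh.pullSect V.ι L ⊤ t) =
      OmegaSh.pullSect V.ι L V (L.presheaf.map (homOfLE (le_top : V ≤ ⊤)).op t) := fun t =>
    (H11Tilde.pullSect_res V.ι L (le_top : V ≤ ⊤) t).symm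
  have h5 : Function.Bijective (fun t => r (OmegaSh.pullSect V.ι L ⊤ t)) := by
    simp only [h4]; exact h2.comp h1
  exact (Function.Bijective.of_comp_iff' h3 _).1 h5

variable (k : Type u) [Field k] [X.Over (Spec (CommRingCat.of k))] [X'.Over (Spec (CommRingCat.of k))]

theorem toGlobal_compat (V : X.Opens) (g : (V : Scheme.{u}) ⟶ X')
    (hg : g ≫ (X' ↘ Spec (CommRingCat.of k)) = V.ι ≫ (X ↘ Spec (CommRingCat.of k))) (c : k) :
    g.app ⊤ (Coh.toGlobal (X' ↘ Spec (CommRingCat.of k)) c) =
      V.ι.app ⊤ (Coh.toGlobal (X ↘ Spec (CommRingCat.of k)) c) := by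
  have h := congrArg Scheme.Hom.appTop hg
  rw [Scheme.Hom.comp_appTop, Scheme.Hom.comp_appTop] at h
  exact congr($h ((Scheme.ΓSpecIso (CommRingCat.of k)).inv c))

attribute [local instance] Groth.Agent.H06Mod.stalkAlgebra

/-- A map of bundles which is injective on a small open around a point with the same local ring bounds
the dimension of the space of global sections. -/
theorem finrank_H0_le [IsLocallyNoetherian X] [IsProper (X ↘ Spec (CommRingCat.of k))]
    (hreg : ∀ x : X, IsRegularLocalRing (X.presheaf.stalk x))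
    {L : X.Modules} (hL : FlatMod.IsFinLocFree L) {L' : X'.Modules} (hL' : FlatMod.IsFinLocFree L')
    (V : X.Opens) (hV : ∀ x : X, x ∉ V → (2 : WithBot ℕ∞) ≤ ringKrullDim (X.presheaf.stalk x))
    (g : (V : Scheme.{u}) ⟶ X')
    (hg : g ≫ (X' ↘ Spec (CommRingCat.of k)) = V.ι ≫ (X ↘ Spec (CommRingCat.of k)))
    (θ : (Scheme.Modules.pullback g).obj L' ⟶ (Scheme.Modules.pullback V.ι).obj L)
    (W : V.toScheme.Opens) (w : V.toScheme) (hw : w ∈ W) (hθ : Function.Injective (θ.app W))
    (hinj : Function.Injective (g.stalkMap w))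
    (hgerm : Function.Injective (L'.presheaf.germ ⊤ (g.base w) trivial)) :
    Module.finrank k (Coh.HH X' L' 0) ≤ Module.finrank k (Coh.HH X L 0) := by
  let eι : Γ(L, ⊤) ≃+ Γ((Scheme.Modules.pullback V.ι).obj L, ⊤) :=
    AddEquiv.ofBijective (OmegaSh.pullSect V.ι L ⊤).hom (bijective_pullSect_top hreg hL V hV)
  let Φ : Γ(L', ⊤) →+ Γ((Scheme.Modules.pullback V.ι).obj L, ⊤) :=
    (θ.app ⊤).hom.comp (OmegaSh.pullSect g L' ⊤).hom
  have hΦ : Function.Injective Φ := by
    refine (injective_iff_map_eq_zero Φ).2 fun σ hσ => hgerm ?_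
    rw [map_zero]
    have h1 : ((Scheme.Modules.pullback g).obj L').presheaf.map (homOfLE (le_top : W ≤ ⊤)).op
        (OmegaSh.pullSect g L' ⊤ σ) = 0 := by
      apply hθ
      rw [map_zero, H11Tilde.app_map_apply θ (le_top : W ≤ ⊤)]
      exact (congrArg _ hσ).trans (map_zero _)
    have h2 : ((Scheme.Modules.pullback g).obj L').presheaf.germ (g ⁻¹ᵁ ⊤) w trivial
        (OmegaSh.pullSect g L' ⊤ σ) = 0 := by
      refine (TopCat.Presheaf.germ_res_apply _ (homOfLE (le_top : W ≤ ⊤)) w hw _).symm.trans ?_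
      exact (congrArg _ h1).trans (map_zero _)
    rw [← H06Mod.pullStalk_germ g L' w ⊤ trivial σ] at h2
    have h3 : H06Mod.pullStalkLin g L' w ((1 : V.toScheme.presheaf.stalk w) ⊗ₜ L'.presheaf.germ ⊤ (g.base w) trivial σ) = 0 := by
      rw [H06Mod.pullStalkLin_tmul, one_smul]; exact h2
    have h4 := (H06Mod.pullStalkLin_bijective g L' w).1 (h3.trans (map_zero _).symm)
    haveI := H29Ref.finite_stalk L' (H10Coh.Tw.isCoh_of_vb hL').2 (g.base w)
    haveI := H8Props.FinLocFree.free_stalk L' hL' (g.base w)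
    let b := Module.Free.chooseBasis (X'.presheaf.stalk (g.base w)) (L'.presheaf.stalk (g.base w))
    refine b.ext_elem fun i => hinj ?_
    have h5 := congrArg (fun z => (b.baseChange (V.toScheme.presheaf.stalk w)).repr z i) h4
    simp only [Module.Basis.baseChange_repr_tmul, map_zero, Finsupp.zero_apply] at h5
    rw [map_zero, Finsupp.zero_apply, map_zero]
    rw [Algebra.smul_def, mul_one] at h5
    exact h5
  let T : Coh.HH X' L' 0 →ₗ[k] Coh.HH X L 0 :=
    { toFun := fun x => (H29RR.sec L).symm (eι.symm (Φ (H29RR.sec L' x)))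
      map_add' := fun x y => by simp only [map_add]
      map_smul' := fun c x => by
        apply (H29RR.sec L).injective
        rw [RingHom.id_apply, H29RR.sec_smul L c, AddEquiv.apply_symm_apply, AddEquiv.apply_symm_apply,
          AddEquiv.symm_apply_eq, H29RR.sec_smul L' c]
        show θ.app ⊤ (OmegaSh.pullSect g L' ⊤ _) = OmegaSh.pullSect V.ι L ⊤ _
        rw [OmegaSh.pullSect_smul g L' ⊤, OmegaSh.pullSect_smul V.ι L ⊤]
        refine (Scheme.Modules.Hom.app_smul θ _ _).trans ?_
        exact congrArg₂ (· • ·) (toGlobal_compat k V g hg c) (eι.apply_symm_apply _).symm }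
  have hT : Function.Injective T := fun x y h =>
    (H29RR.sec L').injective (hΦ (eι.symm.injective ((H29RR.sec L).symm.injective h)))
  haveI := H10Coh.finite_HH_proper k X L (H10Coh.Tw.isCoh_of_vb hL) 0
  exact LinearMap.finrank_le_finrank_of_injective hT

end Groth.Agent.H7Forms
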