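import Groth.Agent.H7Forms.Core
import Groth.Agent.S9370
import Groth.Agent.S15540
import Groth.Agent.S11107
import Groth.Agent.H29Omega.StalkCompat
import Groth.Agent.H29Omega.LocalRingFE
import Groth.Agent.H17.FPExt.Basic
import Groth.Agent.H22Alg.ExtPowHom
import Groth.Agent.H22Alg.KExists
import Groth.Agent.H28RR.Omega
import Groth.Agent.H28Bertini.Regular
import Groth.Agent.H27CurveDiv.RelDim
import Groth.Agent.H17.FLI.TopForms
import Groth.Agent.H29Ref.Rational
import Groth.Prelude.Def_KoszTw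

/-!
# Pullback of forms along a birational map
-/

set_option autoImplicit false
set_option linter.style.haveILetI false
set_option maxHeartbeats 800000

noncomputable section

universe u

open CategoryTheory CategoryTheory.Limits AlgebraicGeometry Opposite TopologicalSpace
open Groth.Agent.H11Ample Groth.Agent.H11Tilde

namespace Groth.Agent.H7Forms

attribute [local instance] Groth.Agent.H06Mod.stalkAlgebra

variable {Z X' S : Scheme.{u}}

/-- A comparison map of differentials is bijective over an open on which the map is a local isomorphism. -/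
theorem bijective_app_diffCompat {f : X' ⟶ S} {f' : Z ⟶ S} (g : Z ⟶ X') (w : g ≫ f = f' ≫ 𝟙 S)
    {Ω : X'.Modules} (d : OmegaSh.Der f Ω) (hd : OmegaSh.IsUniversal d)
    {Ω₂ : Z.Modules} (d₂ : OmegaSh.Der f' Ω₂) (hd₂ : OmegaSh.IsUniversal d₂)
    (c : (Scheme.Modules.pullback g).obj Ω ⟶ Ω₂) (hc : OmegaSh.IsDiffCompat g d d₂ c)
    (W : Z.Opens) (hW : ∀ x ∈ W, IsIso (g.stalkMap x)) : Function.Bijective (c.app W) := by
  refine H17.FPExt.bijective_app_of_isoAt c W fun x hx => ?_
  refine (ConcreteCategory.isIso_iff_bijective _).2 ?_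
  refine (H29Omega.bijective_stalk_diffCompat_iff (𝟙 S) g w d hd d₂ hd₂ c hc x).2 ?_
  letI : Algebra (S.presheaf.stalk (f.base (g.base x))) (S.presheaf.stalk (f'.base x)) :=
    (H29Omega.baseStalkMap f f' (𝟙 S) g w x).hom.toAlgebra
  letI : Algebra (S.presheaf.stalk (f.base (g.base x))) (Z.presheaf.stalk x) :=
    ((g.stalkMap x).hom.comp (f.stalkMap (g.base x)).hom).toAlgebra
  haveI : IsScalarTower (S.presheaf.stalk (f.base (g.base x))) (X'.presheaf.stalk (g.base x))
    (Z.presheaf.stalk x) := .of_algebraMap_eq fun _ => rfl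
  haveI : IsScalarTower (S.presheaf.stalk (f.base (g.base x))) (S.presheaf.stalk (f'.base x))
    (Z.presheaf.stalk x) := .of_algebraMap_eq fun r =>
      (congr($(congrArg CommRingCat.Hom.hom (H29Omega.baseStalkMap_comp f f' (𝟙 S) g w x)) r)).symm
  haveI := hW x hx
  haveI : Algebra.FormallyEtale (X'.presheaf.stalk (g.base x)) (Z.presheaf.stalk x) :=
    Algebra.FormallyEtale.of_equiv (AlgEquiv.ofBijective (Algebra.ofId _ _)
      (ConcreteCategory.bijective_of_isIso (g.stalkMap x)))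
  have e : f'.base x = f.base (g.base x) := by
    rw [← Scheme.Hom.comp_apply g f, w, Category.comp_id]
  haveI : Algebra.FormallyEtale (S.presheaf.stalk (f.base (g.base x))) (S.presheaf.stalk (f'.base x)) := by
    have hb : Function.Bijective (H29Omega.baseStalkMap f f' (𝟙 S) g w x) := by
      have h1 : IsIso (H29Omega.baseStalkMap f f' (𝟙 S) g w x) := by
        rw [H29Omega.baseStalkMap]
        haveI : IsIso (S.presheaf.stalkSpecializes (specializes_of_eq e)) := H06EGA9.isIso_stalkSpecializes_of_eq e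
        exact @IsIso.comp_isIso _ _ _ _ _ _ _ this inferInstance
      exact ConcreteCategory.bijective_of_isIso _
    exact Algebra.FormallyEtale.of_equiv (AlgEquiv.ofBijective (Algebra.ofId _ _) hb)
  exact H29Omega.isBaseChange_map_of_formallyEtale _ _ _ _

/-- Functoriality of exterior powers. -/
theorem exists_wedge {E E' L L' : Z.Modules} {q : ℕ} (hL : ExtPow.IsExtPow q E L)
    (hL' : ExtPow.IsExtPow q E' L') (c : E ⟶ E') :
    ∃ θ : L ⟶ L', ∀ W : Z.affineOpens, Function.Bijective (c.app W.1) → Function.Bijective (θ.app W.1) := by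
  obtain ⟨φ', hφ'⟩ := hL'
  obtain ⟨φ, θ, hθ⟩ := H22Alg.ExtPowHom.exists_hom hL (M := L')
    (fun U => (φ' U).symm.toLinearMap.comp (exteriorPower.map q (H22Alg.ExtPowHom.appL c U.1)))
    (fun U V h e => by
      show (φ' V).symm (exteriorPower.map q (H22Alg.ExtPowHom.appL c V.1) _) =
        L'.presheaf.map (homOfLE h).op ((φ' U).symm (exteriorPower.map q (H22Alg.ExtPowHom.appL c U.1) _))
      erw [exteriorPower.map_apply_ιMulti, exteriorPower.map_apply_ιMulti]
      refine Eq.trans ?_ (hφ' U V h (fun j => c.app U.1 (e j))).symm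
      exact congrArg (fun z => (φ' V).symm (exteriorPower.ιMulti _ q z))
        (funext fun j => app_map_apply c (show V.1 ≤ U.1 from h) (e j)))
  refine ⟨θ, fun W hW => ?_⟩
  rw [show (θ.app W.1 : Γ(L, W.1) → Γ(L', W.1)) =
    (φ' W).symm ∘ exteriorPower.map q (H22Alg.ExtPowHom.appL c W.1) ∘ φ W from funext (hθ W)]
  refine (φ' W).symm.bijective.comp (Function.Bijective.comp ?_ (φ W).bijective)
  let ε := LinearEquiv.ofBijective (H22Alg.ExtPowHom.appL c W.1) hW
  have h1 : (exteriorPower.map q ε.symm.toLinearMap).comp (exteriorPower.map q ε.toLinearMap) = LinearMap.id :=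
    exteriorPower.linearMap_ext <| AlternatingMap.ext fun v => by simp [Function.comp_def]
  have h2 : (exteriorPower.map q ε.toLinearMap).comp (exteriorPower.map q ε.symm.toLinearMap) = LinearMap.id :=
    exteriorPower.linearMap_ext <| AlternatingMap.ext fun v => by simp [Function.comp_def]
  exact Function.bijective_iff_has_inverse.mpr ⟨exteriorPower.map q ε.symm.toLinearMap,
    fun z => LinearMap.congr_fun h1 z, fun z => LinearMap.congr_fun h2 z⟩

/-- Bijectivity on the small affine neighbourhoods gives bijectivity on the stalk. -/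
theorem isoAt_of_bijective_basis {M N : Z.Modules} (θ : M ⟶ N) {A : Z.Opens} {x : Z} (hx : x ∈ A)
    (h : ∀ B : Z.Opens, IsAffineOpen B → B ≤ A → Function.Bijective (θ.app B)) : H17.FPExt.IsoAt θ x := by
  refine (ConcreteCategory.isIso_iff_bijective _).2 ⟨(injective_iff_map_eq_zero _).2 fun v hv => ?_, fun v => ?_⟩
  · obtain ⟨U, hxU, s, rfl⟩ := M.presheaf.exists_germ_eq v
    have h1 : N.presheaf.germ U x hxU (θ.app U s) = 0 :=
      (TopCat.Presheaf.stalkFunctor_map_germ_apply U x hxU _ s).symm.trans hv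
    obtain ⟨W, hxW, iU, iU', h2⟩ := TopCat.Presheaf.germ_eq (F := N.presheaf) x hxU hxU (θ.app U s) 0
      (h1.trans (map_zero _).symm)
    obtain ⟨B, hB, hxB, hBle⟩ := exists_isAffineOpen_mem_and_subset (U := W ⊓ A) (x := x) ⟨hxW, hx⟩
    have hBU : B ≤ U := fun y hy => iU.le (hBle hy).1
    have hBW : B ≤ W := fun y hy => (hBle hy).1
    have h3 : M.presheaf.map (homOfLE hBU).op s = 0 := by
      apply (h B hB fun y hy => (hBle hy).2).1
      rw [map_zero, app_map_apply θ hBU]
      have h4 := congrArg (N.presheaf.map (homOfLE hBW).op) h2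
      rw [map_zero, map_zero] at h4
      exact (OmegaSh.resM_resM (M := N) iU (homOfLE hBW) _).symm.trans h4
    exact ((TopCat.Presheaf.germ_res_apply M.presheaf (homOfLE hBU) x hxB s).symm.trans
      (congrArg _ h3)).trans (map_zero _)
  · obtain ⟨U, hxU, s, rfl⟩ := N.presheaf.exists_germ_eq v
    obtain ⟨B, hB, hxB, hBle⟩ := exists_isAffineOpen_mem_and_subset (U := U ⊓ A) (x := x) ⟨hxU, hx⟩
    obtain ⟨t, ht⟩ := (h B hB fun y hy => (hBle hy).2).2 (N.presheaf.map (homOfLE fun y hy => (hBle hy).1).op s)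
    refine ⟨M.presheaf.germ B x hxB t, ?_⟩
    refine (TopCat.Presheaf.stalkFunctor_map_germ_apply B x hxB _ t).trans ?_
    refine (congrArg (N.presheaf.germ B x hxB) ht).trans ?_
    exact TopCat.Presheaf.germ_res_apply N.presheaf _ x hxB s

/-- Tensor powers of a map of modules. -/
def tpowMap {M N : Z.Modules} (a : M ⟶ N) : ∀ m : ℕ, CohB1.tensorPow M m ⟶ CohB1.tensorPow N m
  | 0 => 𝟙 _
  | m + 1 => KoszTw.tensorMap (tpowMap a m) a

theorem tpowMap_spow {M N : Z.Modules} (a : M ⟶ N) {V : Z.Opens} (e : Γ(M, V)) :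
    ∀ m : ℕ, (tpowMap a m).app V (spow e m) = spow (a.app V e) m
  | 0 => rfl
  | m + 1 => by
    show (KoszTw.tensorMap (tpowMap a m) a).app V (SecTwist.tmul _ M V (spow e m) e) = _
    rw [KoszTw.tensorMap_tmul, tpowMap_spow a e m]
    rfl

/-- Where a map of invertible modules is bijective, so are its tensor powers. -/
theorem bijective_tpowMap {M N : Z.Modules} (a : M ⟶ N) (m : ℕ) (W : Z.Opens) (e : Γ(M, W)) (he : IsGen M e)
    (ha : ∀ W' ≤ W, Function.Bijective (a.app W')) : Function.Bijective ((tpowMap a m).app W) := by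
  have he' : IsGen N (a.app W e) := isGen_of_bijective fun W' h => by
    have h1 : (fun r : Γ(Z, W') => r • N.presheaf.map (homOfLE h).op (a.app W e)) =
        (a.app W') ∘ (fun r : Γ(Z, W') => r • M.presheaf.map (homOfLE h).op e) := funext fun r => by
      show _ = a.app W' (r • _)
      rw [Scheme.Modules.Hom.app_smul, app_map_apply a h]
    rw [h1]
    exact (ha W' h).comp (he.bijective h)
  have hM := (isGen_spow he m).bijective (le_refl W)
  have hN := (isGen_spow he' m).bijective (le_refl W)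
  have h2 : (fun r : Γ(Z, W) => r • (CohB1.tensorPow N m).presheaf.map (homOfLE (le_refl W)).op (spow (a.app W e) m)) =
      (tpowMap a m).app W ∘ (fun r : Γ(Z, W) => r • (CohB1.tensorPow M m).presheaf.map (homOfLE (le_refl W)).op (spow e m)) :=
    funext fun r => by
      show _ = (tpowMap a m).app W (r • _)
      rw [Scheme.Modules.Hom.app_smul, app_map_apply (tpowMap a m) (le_refl W), tpowMap_spow]
  rw [h2] at hN
  exact (Function.Bijective.of_comp_iff _ hM).1 hN

section Birational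

variable (k : Type u) [Field k] [IsAlgClosed k] (n : ℕ)
  {X : Scheme.{u}} {Y : Scheme.{u}} [X.Over (Spec (CommRingCat.of k))] [Y.Over (Spec (CommRingCat.of k))]
  [IsIntegral X] [IsIntegral Y]
  [IsProper (X ↘ (Spec (CommRingCat.of k)))] [IsProper (Y ↘ (Spec (CommRingCat.of k)))]

theorem isFinLocFreeOfRank_omega (hreg : ∀ x : ↥X, IsRegularLocalRing ↑(X.presheaf.stalk x))
    (hn : topologicalKrullDim ↥X = n) :
    FlatMod.IsFinLocFreeOfRank n (Omega.sheaf (X ↘ Spec (CommRingCat.of k))) := by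
  haveI := H28Bertini.smooth_of_regular (X ↘ Spec (CommRingCat.of k)) hreg
  haveI := H27CurveDiv.smoothOfRelativeDimension_of_dim (X ↘ Spec (CommRingCat.of k)) n hn
  exact H28RR.isFinLocFreeOfRank_omega _ n

theorem finLocFree_forms (hreg : ∀ x : ↥X, IsRegularLocalRing ↑(X.presheaf.stalk x))
    (hn : topologicalKrullDim ↥X = n) (q : ℕ) {L : X.Modules}
    (hL : ExtPow.IsExtPow q (Omega.sheaf (X ↘ (Spec (CommRingCat.of k)))) L) : FlatMod.IsFinLocFree L :=
  H22Alg.ExtPowHom.finLocFree_of_isExtPow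
    (H22Alg.KModel.finLocFree_of_rank (isFinLocFreeOfRank_omega k n hreg hn)) hL

theorem isInvertible_topForms (hreg : ∀ x : ↥X, IsRegularLocalRing ↑(X.presheaf.stalk x))
    (hn : topologicalKrullDim ↥X = n) {L : X.Modules}
    (hL : ExtPow.IsExtPow n (Omega.sheaf (X ↘ (Spec (CommRingCat.of k)))) L) : PicF.IsInvertible L :=
  H17.FLI.isInvertible_of_rank_one
    (H17.FLI.isInvertible_extPow (isFinLocFreeOfRank_omega k n hreg hn) hL)

/-- The data of pulling back `q`-forms along a birational map. -/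
theorem exists_forms_map (hreg : ∀ x : ↥X, IsRegularLocalRing ↑(X.presheaf.stalk x))
    (U : X.Opens) (U' : Y.Opens) (hU : (U : Set ↥X).Nonempty) (e : (U : Scheme.{u}) ≅ (U' : Scheme.{u}))
    (he : e.hom ≫ U'.ι ≫ (Y ↘ (Spec (CommRingCat.of k))) = U.ι ≫ (X ↘ (Spec (CommRingCat.of k))))
    (q : ℕ) {L : X.Modules} (hL : ExtPow.IsExtPow q (Omega.sheaf (X ↘ (Spec (CommRingCat.of k)))) L)
    {L' : Y.Modules} (hL' : ExtPow.IsExtPow q (Omega.sheaf (Y ↘ (Spec (CommRingCat.of k)))) L') :
    ∃ (V : X.Opens) (_ : ∀ x : X, x ∉ V → (2 : WithBot ℕ∞) ≤ ringKrullDim (X.presheaf.stalk x))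
      (g : (V : Scheme.{u}) ⟶ Y)
      (_ : g ≫ (Y ↘ Spec (CommRingCat.of k)) = V.ι ≫ (X ↘ Spec (CommRingCat.of k)))
      (θ : (Scheme.Modules.pullback g).obj L' ⟶ (Scheme.Modules.pullback V.ι).obj L)
      (W : V.toScheme.Opens) (w : V.toScheme), w ∈ W ∧ IsIso (g.stalkMap w) ∧ g.base w = genericPoint Y ∧
        ∀ W' : V.toScheme.Opens, IsAffineOpen W' → W' ≤ W → Function.Bijective (θ.app W') := by
  let sX := X ↘ Spec (CommRingCat.of k)
  let sY := Y ↘ Spec (CommRingCat.of k)
  haveI := H28Bertini.smooth_of_regular sX hreg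
  obtain ⟨V, hUV, g, hg, hgU, hV⟩ := S11107.result sX sY U (U.2.dense hU) (e.hom ≫ U'.ι)
    (by rw [Category.assoc]; exact he)
  obtain ⟨c, hc, -⟩ := S9370.result sY (V.ι ≫ sX) g (𝟙 _) (by rw [Category.comp_id]; exact hg.symm) _ _
    (H17.PrinOmega.isUniversal_dOmega sY) _ _ (H17.PrinOmega.isUniversal_dOmega (V.ι ≫ sX))
  have h1 := H22Alg.ExtPowHom.isExtPow_pullback g (H29Omega.isQCoh_sheaf sY) hL'
  have h2 := S15540.result X (Spec (CommRingCat.of k)) V.toScheme (Spec (CommRingCat.of k)) sX (V.ι ≫ sX) V.ι (𝟙 _)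
    (Category.comp_id _).symm q L hL
  obtain ⟨θ, hθ⟩ := exists_wedge h1 h2 c
  let j := X.homOfLE hUV
  have hiso : ∀ x ∈ j.opensRange, IsIso (g.stalkMap x) := by
    rintro x ⟨u, rfl⟩
    haveI : IsOpenImmersion (j ≫ g) := by rw [show j ≫ g = e.hom ≫ U'.ι from hgU]; infer_instance
    have h3 : g.stalkMap (j u) ≫ j.stalkMap u = (j ≫ g).stalkMap u := (Scheme.Hom.stalkMap_comp j g u).symm
    haveI : IsIso (g.stalkMap (j u) ≫ j.stalkMap u) := h3 ▸ (inferInstance : IsIso (Scheme.Hom.stalkMap (j ≫ g) u))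
    exact IsIso.of_isIso_comp_right (g.stalkMap (j u)) (j.stalkMap u)
  haveI : Nonempty U := hU.to_subtype
  let w := j.base (genericPoint U.toScheme)
  refine ⟨V, hV, g, hg, θ, j.opensRange, w, ⟨_, rfl⟩, hiso w ⟨_, rfl⟩, ?_, fun W' hW' hle => ?_⟩
  · haveI : IsOpenImmersion (j ≫ g) := by rw [show j ≫ g = e.hom ≫ U'.ι from hgU]; infer_instance
    exact (Scheme.Hom.comp_apply j g _).symm.trans (genericPoint_eq_of_isOpenImmersion (j ≫ g))
  · exact hθ ⟨W', hW'⟩ (bijective_app_diffCompat g (by rw [Category.comp_id]; exact hg) _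
      (H17.PrinOmega.isUniversal_dOmega sY) _ (H17.PrinOmega.isUniversal_dOmega (V.ι ≫ sX)) c hc W'
      fun x hx => hiso x (hle hx))

theorem germ_generic_injective' {M : Y.Modules} (hM : FlatMod.IsFinLocFree M) (y : Y) (hy : y = genericPoint Y) :
    Function.Injective (M.presheaf.germ ⊤ y trivial) := by
  subst hy
  refine H29Ref.germ_generic_injective M (H8Props.FinLocFree.isQCoh_of_isFinLocFree M hM) (fun x => ?_) (show genericPoint Y ∈ (⊤ : Y.Opens) from trivial)
  haveI := H8Props.FinLocFree.free_stalk M hM x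
  infer_instance

theorem finrank_forms_le (hreg : ∀ x : ↥X, IsRegularLocalRing ↑(X.presheaf.stalk x))
    (hreg' : ∀ x : ↥Y, IsRegularLocalRing ↑(Y.presheaf.stalk x))
    (hn : topologicalKrullDim ↥X = n) (hn' : topologicalKrullDim ↥Y = n)
    (U : X.Opens) (U' : Y.Opens) (hU : (U : Set ↥X).Nonempty) (e : (U : Scheme.{u}) ≅ (U' : Scheme.{u}))
    (he : e.hom ≫ U'.ι ≫ (Y ↘ (Spec (CommRingCat.of k))) = U.ι ≫ (X ↘ (Spec (CommRingCat.of k))))
    (q : ℕ) {L : X.Modules} (hL : ExtPow.IsExtPow q (Omega.sheaf (X ↘ (Spec (CommRingCat.of k)))) L)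
    {L' : Y.Modules} (hL' : ExtPow.IsExtPow q (Omega.sheaf (Y ↘ (Spec (CommRingCat.of k)))) L') :
    Module.finrank k (Coh.HH Y L' 0) ≤ Module.finrank k (Coh.HH X L 0) := by
  haveI : IsLocallyNoetherian X := LocallyOfFiniteType.isLocallyNoetherian (X ↘ Spec (CommRingCat.of k))
  obtain ⟨V, hV, g, hg, θ, W, w, hw, hiso, hgw, hθ⟩ := exists_forms_map k hreg U U' hU e he q hL hL'
  obtain ⟨W', hW', hwW', hle⟩ := exists_isAffineOpen_mem_and_subset (U := W) hw
  exact finrank_H0_le k hreg (finLocFree_forms k n hreg hn q hL) (finLocFree_forms k n hreg' hn' q hL')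
    V hV g hg θ W' w hwW' (hθ W' hW' hle).1 (ConcreteCategory.bijective_of_isIso (g.stalkMap w)).1
    (germ_generic_injective' (finLocFree_forms k n hreg' hn' q hL') _ hgw)

theorem finrank_tpow_topForms_le (hreg : ∀ x : ↥X, IsRegularLocalRing ↑(X.presheaf.stalk x))
    (hreg' : ∀ x : ↥Y, IsRegularLocalRing ↑(Y.presheaf.stalk x))
    (hn : topologicalKrullDim ↥X = n) (hn' : topologicalKrullDim ↥Y = n)
    (U : X.Opens) (U' : Y.Opens) (hU : (U : Set ↥X).Nonempty) (e : (U : Scheme.{u}) ≅ (U' : Scheme.{u}))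
    (he : e.hom ≫ U'.ι ≫ (Y ↘ (Spec (CommRingCat.of k))) = U.ι ≫ (X ↘ (Spec (CommRingCat.of k))))
    {ω : X.Modules} (hω : ExtPow.IsExtPow n (Omega.sheaf (X ↘ (Spec (CommRingCat.of k)))) ω)
    {ω' : Y.Modules} (hω' : ExtPow.IsExtPow n (Omega.sheaf (Y ↘ (Spec (CommRingCat.of k)))) ω') (m : ℕ) :
    Module.finrank k (Coh.HH Y (CohB1.tensorPow ω' m) 0) ≤
      Module.finrank k (Coh.HH X (CohB1.tensorPow ω m) 0) := by
  haveI : IsLocallyNoetherian X := LocallyOfFiniteType.isLocallyNoetherian (X ↘ Spec (CommRingCat.of k))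
  obtain ⟨V, hV, g, hg, θ, W, w, hw, hiso, hgw, hθ⟩ := exists_forms_map k hreg U U' hU e he n hω hω'
  have hi := isInvertible_topForms k n hreg hn hω
  have hi' := isInvertible_topForms k n hreg' hn' hω'
  obtain ⟨a⟩ := exists_iso_pullback_tensorPow g hi' m
  obtain ⟨b⟩ := exists_iso_pullback_tensorPow V.ι hi m
  obtain ⟨V₀, ε, hwV₀, hε⟩ := exists_gen (isInvertible_pullback g hi') w
  let W' : V.toScheme.Opens := V₀ ⊓ W
  have hm := bijective_tpowMap θ m W' _ (hε.res (inf_le_left : W' ≤ V₀)) fun W'' h'' =>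
    H17.FPExt.bijective_app_of_isoAt θ W'' fun x hx => by
      obtain ⟨A, hA, hxA, hAW⟩ := exists_isAffineOpen_mem_and_subset (U := W) (x := x) (h'' hx).2
      exact isoAt_of_bijective_basis θ hxA fun B hB hBA => hθ B hB (hBA.trans hAW)
  let θm := a.hom ≫ tpowMap θ m ≫ b.inv
  exact finrank_H0_le k hreg (H22Alg.KModel.finLocFree_invertible (isInvertible_tensorPow hi m))
    (H22Alg.KModel.finLocFree_invertible (isInvertible_tensorPow hi' m))
    V hV g hg θm W' w ⟨hwV₀, hw⟩
    (((H17.PullSect.bijective_app b.inv W').1.comp hm.1).comp (H17.PullSect.bijective_app a.hom W').1)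
    (ConcreteCategory.bijective_of_isIso (g.stalkMap w)).1
    (germ_generic_injective' (H22Alg.KModel.finLocFree_invertible (isInvertible_tensorPow hi' m)) _ hgw)

end Birational

end Groth.Agent.H7Forms
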